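import Mathlib

/-! No set of semilinear collineations is sharply 2-transitive on the points. -/

set_option autoImplicit false

namespace CfsgLib.SharpSemilinear

open Finset

variable {F : Type*} [Field F] {V : Type*} [AddCommGroup V] [Module F V]

/-- the points in a subspace -/
def pts (W : Submodule F V) : Set (Projectivization F V) := {x | x.submodule ≤ W}

theorem mk_mem_pts {W : Submodule F V} {v : V} (hv : v ≠ 0) :
    Projectivization.mk F v hv ∈ pts W ↔ v ∈ W := by
  show (Projectivization.mk F v hv).submodule ≤ W ↔ _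
  rw [Projectivization.submodule_mk, Submodule.span_singleton_le_iff_mem]

theorem pts_inf (W W' : Submodule F V) : pts (W ⊓ W') = pts W ∩ pts W' := by
  ext x
  show x.submodule ≤ W ⊓ W' ↔ x.submodule ≤ W ∧ x.submodule ≤ W'
  exact le_inf_iff

theorem ncard_pts_cast [Finite F] [Finite V] {W : Submodule F V} (hW : W ≠ ⊥) :
    ((pts W).ncard : F) = 1 := by
  classical
  have e : Nat.card (Projectivization F W) = (pts W).ncard := by
    rw [← Nat.card_coe_set_eq]
    refine Nat.card_eq_of_bijective (fun x => ⟨Projectivization.map W.subtype W.subtype_injective x, ?_⟩) ⟨?_, ?_⟩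
    · induction x using Projectivization.ind with
      | h v hv =>
        rw [Projectivization.map_mk, mk_mem_pts]
        exact v.2
    · intro x y h
      exact Projectivization.map_injective W.subtype W.subtype_injective (congrArg Subtype.val h)
    · rintro ⟨x, hx⟩
      induction x using Projectivization.ind with
      | h v hv =>
        rw [mk_mem_pts] at hx
        exact ⟨Projectivization.mk F (⟨v, hx⟩ : W) (fun h => hv (congrArg Subtype.val h)),
          Subtype.ext (Projectivization.map_mk W.subtype W.subtype_injective _ _)⟩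
  have h := Projectivization.card' F W
  rw [e, Module.natCard_eq_pow_finrank (K := F) (V := W)] at h
  have hd : Module.finrank F W ≠ 0 := fun h0 => hW (Submodule.finrank_eq_zero.1 h0)
  have hq : ((Nat.card F : ℕ) : F) = 0 := by
    cases nonempty_fintype F
    rw [Nat.card_eq_fintype_card]
    exact Nat.cast_card_eq_zero F
  have h' := congrArg (fun k : ℕ => (k : F)) h
  have h1 : 1 ≤ Nat.card F := Nat.card_pos
  simp only [Nat.cast_pow, Nat.cast_add, Nat.cast_mul, Nat.cast_sub h1, hq, zero_pow hd, Nat.cast_one] at h'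
  linear_combination h'

theorem inf_ne_bot [Finite F] [Finite V] {W H : Submodule F V}
    (h : Module.finrank F V < Module.finrank F W + Module.finrank F H) : W ⊓ H ≠ ⊥ := by
  intro hb
  have h1 := Submodule.finrank_sup_add_finrank_inf_eq W H
  rw [hb, finrank_bot, add_zero] at h1
  have h2 := Submodule.finrank_le (W ⊔ H)
  omega

open Classical in
/-- the indicator in the ground field -/
noncomputable def ind (s : Set (Projectivization F V)) (x : Projectivization F V) : F :=
  if x ∈ s then 1 else 0

theorem sum_ind {ι : Type*} (s : Set (Projectivization F V)) (T : Finset ι) (g : ι → Projectivization F V)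
    (hg : Set.InjOn g T) (hfin : (s ∩ g '' T).Finite) :
    ∑ i ∈ T, ind s (g i) = ((s ∩ g '' T).ncard : F) := by
  classical
  simp only [ind]
  rw [Finset.sum_boole]
  congr 1
  rw [Set.ncard_eq_toFinset_card _ hfin]
  refine Finset.card_bij (fun i _ => g i) (fun i hi => ?_) (fun i hi j hj h => ?_) (fun y hy => ?_)
  · rw [Finset.mem_filter] at hi
    rw [Set.Finite.mem_toFinset]
    exact ⟨hi.2, i, hi.1, rfl⟩
  · exact hg (Finset.mem_filter.1 hi).1 (Finset.mem_filter.1 hj).1 h
  · rw [Set.Finite.mem_toFinset] at hy
    obtain ⟨hys, i, hi, rfl⟩ := hy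
    exact ⟨i, Finset.mem_filter.2 ⟨hi, hys⟩, rfl⟩

theorem not_sharply_two_transitive [Finite F] (n : ℕ) (hn : 3 ≤ n)
    (S : Set (Equiv.Perm (Projectivization F (Fin n → F))))
    (hS : ∀ s ∈ S, ∃ (σ : F ≃+* F) (f : (Fin n → F) →ₛₗ[(σ : F →+* F)] (Fin n → F)) (hf : Function.Injective f),
      ∀ x, s x = Projectivization.map f hf x) :
    ¬ (∀ a b c d : Projectivization F (Fin n → F), a ≠ b → c ≠ d → ∃! s, s ∈ S ∧ s a = c ∧ s b = d) := by
  classical
  intro h2
  haveI : Finite (Projectivization F (Fin n → F)) := Quotient.finite _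
  cases nonempty_fintype (Projectivization F (Fin n → F))
  let e : Fin n → (Fin n → F) := fun i => Pi.single i 1
  have he : ∀ i j, e i j = if j = i then 1 else 0 := fun i j => Pi.single_apply i 1 j
  let i0 : Fin n := ⟨0, by omega⟩
  let i1 : Fin n := ⟨1, by omega⟩
  let i2 : Fin n := ⟨2, by omega⟩
  have he0 : e i0 ≠ 0 := fun h => by simpa [e] using congrFun h i0
  set a := Projectivization.mk F (e i0) he0 with ha
  let H : Submodule F (Fin n → F) := LinearMap.ker (LinearMap.proj i0)
  let H' : Submodule F (Fin n → F) := LinearMap.ker (LinearMap.proj i1)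
  let L : Submodule F (Fin n → F) := Submodule.span F (Set.range ![e i1, e i2])
  have hrank : ∀ i : Fin n, Module.finrank F (LinearMap.ker (LinearMap.proj i : (Fin n → F) →ₗ[F] F)) = n - 1 := by
    intro i
    have h := LinearMap.finrank_range_add_finrank_ker (LinearMap.proj i : (Fin n → F) →ₗ[F] F)
    rw [LinearMap.range_eq_top.2 (fun y => ⟨fun _ => y, rfl⟩), finrank_top, Module.finrank_self,
      Module.finrank_fin_fun] at h
    omega
  have hHne : ∀ i : Fin n, (LinearMap.ker (LinearMap.proj i : (Fin n → F) →ₗ[F] F)) ≠ ⊥ := fun i hb => by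
    have := hrank i
    rw [hb, finrank_bot] at this
    omega
  have h12 : i1 ≠ i2 := by simp [i1, i2]
  have hli : LinearIndependent F ![e i1, e i2] := by
    rw [LinearIndependent.pair_iff]
    intro s t hst
    have h1 := congrFun hst i1
    have h2 := congrFun hst i2
    simp [e, h12, Ne.symm h12] at h1 h2
    exact ⟨h1, h2⟩
  have hL : Module.finrank F L = 2 := by
    rw [finrank_span_eq_card hli, Fintype.card_fin]
  have haH : a ∉ pts H := by
    rw [ha, mk_mem_pts]; simp [H, e]
  have haH' : a ∈ pts H' := by
    rw [ha, mk_mem_pts]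
    simp [H', e, i0, i1]
  have haL : a ∉ pts L := by
    rw [ha, mk_mem_pts]
    intro h
    have : L ≤ H := Submodule.span_le.2 (by
      rintro _ ⟨j, rfl⟩
      fin_cases j <;> simp [H, e, i0, i1, i2])
    have := this h
    simp [H, e] at this
  -- the weight
  let w : Projectivization F (Fin n → F) → F := fun y => ind (pts H) y - ind (pts H' \ {a}) y
  let T : Finset (Equiv.Perm (Projectivization F (Fin n → F))) := Finset.univ.filter fun s => s ∈ S ∧ s a = a
  let PL : Finset (Projectivization F (Fin n → F)) := Finset.univ.filter fun x => x ∈ pts L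
  have hzero : ∀ s ∈ T, ∑ x ∈ PL, w (s x) = 0 := by
    intro s hs
    obtain ⟨-, hsS, hsa⟩ := Finset.mem_filter.1 hs
    obtain ⟨σ, f, hf, hsf⟩ := hS s hsS
    haveI : RingHomSurjective (σ : F →+* F) := ⟨σ.surjective⟩
    set L' := Submodule.map f L with hL'def
    have himg : (s '' (PL : Set (Projectivization F (Fin n → F)))) = pts L' := by
      ext y
      constructor
      · rintro ⟨x, hx, rfl⟩
        have hx' : x ∈ pts L := by simpa [PL] using hx
        induction x using Projectivization.ind with
        | h v hv =>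
          rw [hsf, Projectivization.map_mk, mk_mem_pts]
          exact Submodule.mem_map_of_mem ((mk_mem_pts hv).1 hx')
      · intro hy
        induction y using Projectivization.ind with
        | h v hv =>
          obtain ⟨u, hu, huv⟩ := Submodule.mem_map.1 ((mk_mem_pts hv).1 hy)
          have hu0 : u ≠ 0 := fun h0 => hv (by rw [← huv, h0, map_zero])
          refine ⟨Projectivization.mk F u hu0, by simpa [PL] using (mk_mem_pts hu0).2 hu, ?_⟩
          rw [hsf, Projectivization.map_mk]
          simp only [huv]
    have haL' : a ∉ pts L' := by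
      rw [← himg]
      rintro ⟨x, hx, hxa⟩
      have : x = a := s.injective (hxa.trans hsa.symm)
      subst this
      exact haL (by simpa [PL] using hx)
    have hL' : Module.finrank F L' = 2 := by
      have hc : Nat.card L' = Nat.card L := by
        refine (Nat.card_eq_of_bijective (fun u : L => (⟨f u, Submodule.mem_map_of_mem u.2⟩ : L')) ⟨?_, ?_⟩).symm
        · intro u v huv
          exact Subtype.ext (hf (congrArg Subtype.val huv))
        · rintro ⟨v, hv⟩
          obtain ⟨u, hu, rfl⟩ := Submodule.mem_map.1 hv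
          exact ⟨⟨u, hu⟩, rfl⟩
      rw [Module.natCard_eq_pow_finrank (K := F) (V := L'), Module.natCard_eq_pow_finrank (K := F) (V := L), hL] at hc
      exact Nat.pow_right_injective Finite.one_lt_card hc
    have hmeet : ∀ i : Fin n, ((pts (LinearMap.ker (LinearMap.proj i : (Fin n → F) →ₗ[F] F)) ∩ pts L').ncard : F) = 1 := by
      intro i
      rw [← pts_inf]
      refine ncard_pts_cast (inf_ne_bot ?_)
      rw [hrank, hL', Module.finrank_fin_fun]
      omega
    simp only [w, Finset.sum_sub_distrib]
    rw [sum_ind _ _ _ s.injective.injOn (Set.toFinite _), sum_ind _ _ _ s.injective.injOn (Set.toFinite _), himg]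
    have hd : (pts H' \ {a}) ∩ pts L' = pts H' ∩ pts L' := by
      ext x
      simp only [Set.mem_inter_iff, Set.mem_sdiff, Set.mem_singleton_iff]
      exact ⟨fun h => ⟨h.1.1, h.2⟩, fun h => ⟨⟨h.1, fun e => haL' (e ▸ h.2)⟩, h.2⟩⟩
    rw [hd, hmeet i0, hmeet i1, sub_self]
  have hswap : ∑ s ∈ T, ∑ x ∈ PL, w (s x) = ∑ x ∈ PL, ∑ y ∈ Finset.univ.erase a, w y := by
    rw [Finset.sum_comm]
    refine Finset.sum_congr rfl fun x hx => ?_
    have hxa : x ≠ a := fun e => haL (by simpa [PL, e] using hx)
    refine Finset.sum_bij (fun s _ => s x) (fun s hs => ?_) (fun s hs t ht hst => ?_) (fun y hy => ?_) (fun _ _ => rfl)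
    · obtain ⟨-, -, hsa⟩ := Finset.mem_filter.1 hs
      exact Finset.mem_erase.2 ⟨fun e => hxa (s.injective (e.trans hsa.symm)), Finset.mem_univ _⟩
    · obtain ⟨-, hsS, hsa⟩ := Finset.mem_filter.1 hs
      obtain ⟨-, htS, hta⟩ := Finset.mem_filter.1 ht
      have hne : a ≠ s x := fun e => hxa (s.injective (e.symm.trans hsa.symm))
      exact (h2 a x a (s x) (Ne.symm hxa) hne).unique ⟨hsS, hsa, rfl⟩ ⟨htS, hta, hst.symm⟩
    · obtain ⟨s, hs, -⟩ := h2 a x a y (Ne.symm hxa) (Ne.symm (Finset.mem_erase.1 hy).1)
      exact ⟨s, Finset.mem_filter.2 ⟨Finset.mem_univ _, hs.1, hs.2.1⟩, hs.2.2⟩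
  have htot : ∑ y ∈ Finset.univ.erase a, w y = 1 := by
    simp only [w, Finset.sum_sub_distrib]
    rw [sum_ind _ _ (fun y => y) Function.injective_id.injOn (Set.toFinite _),
      sum_ind _ _ (fun y => y) Function.injective_id.injOn (Set.toFinite _)]
    simp only [Set.image_id', Finset.coe_erase, Finset.coe_univ]
    rw [show pts H ∩ (Set.univ \ {a}) = pts H by
        ext x; simp only [Set.mem_inter_iff, Set.mem_sdiff, Set.mem_univ, true_and, Set.mem_singleton_iff]
        exact ⟨And.left, fun h => ⟨h, fun e => haH (e ▸ h)⟩⟩,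
      show (pts H' \ {a}) ∩ (Set.univ \ {a}) = pts H' \ {a} by ext x; simp,
      ncard_pts_cast (hHne i0)]
    have hc := Set.ncard_diff_singleton_add_one haH' (Set.toFinite _)
    have hc' := congrArg (fun k : ℕ => (k : F)) hc
    simp only [Nat.cast_add, Nat.cast_one] at hc'
    rw [ncard_pts_cast (hHne i1)] at hc'
    linear_combination -hc'
  rw [Finset.sum_eq_zero hzero, Finset.sum_congr rfl (fun x _ => htot), Finset.sum_const, nsmul_one] at hswap
  have hPL : ((PL.card : ℕ) : F) = 1 := by
    rw [← Set.ncard_coe_finset, show (PL : Set (Projectivization F (Fin n → F))) = pts L by ext; simp [PL]]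
    exact ncard_pts_cast (fun hb => by rw [hb, finrank_bot] at hL; omega)
  rw [hPL] at hswap
  exact zero_ne_one hswap

end CfsgLib.SharpSemilinear
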